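import Mathlib
import Cfsg.Agent.Lib.Orth.Omega
import Cfsg.Agent.Lib.Dickson.SquareClass

set_option autoImplicit false

/-! The involution negating `i` hyperbolic pairs of coordinates and its spinor norm. -/

namespace Cfsg.Agent.Lib.PairNeg

open Cfsg Cfsg.Agent.Lib.Orth QuadraticMap

variable {ι : Type} [Fintype ι] [DecidableEq ι] {F : Type*} [Field F] [Finite F]
  {Q : QuadraticForm F (ι → F)}

open Classical in
/-- `-1` when `-1` is not a square, else `1`. -/
noncomputable def minusSign (F : Type*) [Field F] : ℤˣ := if IsSquare (-1 : F) then 1 else -1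

/-- `a`, `b` are the coordinates of a hyperbolic pair orthogonal to the other coordinates. -/
structure IsPairCoord (Q : QuadraticForm F (ι → F)) (a b : ι) : Prop where
  ne : a ≠ b
  qa : Q (Pi.single a 1) = 0
  qb : Q (Pi.single b 1) = 0
  pa : ∀ x, polar ⇑Q (Pi.single a 1) x = x b
  pb : ∀ x, polar ⇑Q (Pi.single b 1) x = x a

theorem exists_neg_pair (h2 : (2 : F) ≠ 0) (hQ : (QuadraticMap.polarBilin Q).Nondegenerate)
    {a b : ι} (h : IsPairCoord Q a b) :
    ∃ g : ↥(isometryGroup F ⇑Q), detSign Q h2 hQ g = 1 ∧ spinor Q g = minusSign F ∧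
      ∀ (x : ι → F) (k : ι), app g x k = if k = a ∨ k = b then -x k else x k := by
  classical
  set e : ι → F := Pi.single a 1 with he
  set f : ι → F := Pi.single b 1 with hf
  have hef : polar ⇑Q e f = 1 := by rw [h.pa, hf, Pi.single_eq_same]
  have hu : Q (e + f) = 1 := by
    rw [QuadraticMap.map_add (⇑Q), h.qa, h.qb, hef]; ring
  have hw : Q (e - f) = -1 := by
    rw [sub_eq_add_neg, QuadraticMap.map_add (⇑Q), QuadraticMap.map_neg, h.qa, h.qb,
      polar_neg_right, hef]
    ring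
  have hu0 : Q (e + f) ≠ 0 := by rw [hu]; exact one_ne_zero
  have hw0 : Q (e - f) ≠ 0 := by rw [hw]; exact neg_ne_zero.2 one_ne_zero
  refine ⟨refl Q _ hu0 * refl Q _ hw0, ?_, ?_, ?_⟩
  · rw [map_mul, detSign_refl, detSign_refl]; rfl
  · rw [map_mul, spinor_refl_of_isSquare h2 hu0 (by rw [hu]; exact IsSquare.one), spinor_refl h2,
      hw, minusSign]
    split_ifs <;> rfl
  · intro x k
    rw [app_mul, app_refl, app_refl, hu, hw, polar_sub_left, h.pa, h.pb]
    have h1 : ∀ y : ι → F, polar ⇑Q (e + f) y = y b + y a := fun y => by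
      rw [polar_add_left, h.pa, h.pb]
    rw [h1]
    have ea : e a = 1 := Pi.single_eq_same a 1
    have eb : e b = 0 := Pi.single_eq_of_ne h.ne.symm 1
    have fa : f a = 0 := Pi.single_eq_of_ne h.ne 1
    have fb : f b = 1 := Pi.single_eq_same b 1
    simp only [Pi.sub_apply, Pi.add_apply, Pi.smul_apply, smul_eq_mul, inv_one, inv_neg, ea, eb,
      fa, fb]
    by_cases hka : k = a
    · subst hka; rw [if_pos (Or.inl rfl), ea, fa]; ring
    by_cases hkb : k = b
    · subst hkb; rw [if_pos (Or.inr rfl), eb, fb]; ring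
    · rw [if_neg (by tauto), show e k = 0 from Pi.single_eq_of_ne hka 1,
        show f k = 0 from Pi.single_eq_of_ne hkb 1]
      ring

theorem exists_neg_pairs (h2 : (2 : F) ≠ 0) (hQ : (QuadraticMap.polarBilin Q).Nondegenerate)
    (idx : ι → ℕ) (i : ℕ)
    (h : ∀ j < i, ∃ a b, IsPairCoord Q a b ∧ ∀ k, idx k = j ↔ k = a ∨ k = b) :
    ∃ g : ↥(isometryGroup F ⇑Q), detSign Q h2 hQ g = 1 ∧ spinor Q g = minusSign F ^ i ∧
      ∀ (x : ι → F) (k : ι), app g x k = if idx k < i then -x k else x k := by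
  induction i with
  | zero => exact ⟨1, map_one _, by simp, fun x k => by simp⟩
  | succ i ih =>
    obtain ⟨g, hd, hs, hg⟩ := ih fun j hj => h j (by omega)
    obtain ⟨a, b, hp, hab⟩ := h i (by omega)
    obtain ⟨n, nd, ns, hn⟩ := exists_neg_pair h2 hQ hp
    refine ⟨n * g, by rw [map_mul, hd, nd, one_mul], by rw [map_mul, hs, ns, pow_succ'], ?_⟩
    intro x k
    rw [app_mul, hn, hg]
    have := hab k
    by_cases h1 : idx k = i
    · rw [if_pos (this.1 h1), if_neg (by omega), if_pos (by omega)]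
    · rw [if_neg (fun c => h1 (this.2 c))]
      exact if_congr (by omega) rfl rfl

/-- The involution negating `i` hyperbolic pairs lies in `Omega` iff `q ^ i ≡ 1 (mod 4)`. -/
theorem neg_pairs_mem_omega_iff [Fintype F] {q : ℕ} (hF : Fintype.card F = q) (hq : Odd q)
    {φ : (ι → F) → F} (hφ : ⇑Q = φ) (hQ : (QuadraticMap.polarBilin Q).Nondegenerate)
    (idx : ι → ℕ) (i : ℕ) (hi : 1 ≤ i)
    (h : ∀ j < i, ∃ a b, IsPairCoord Q a b ∧ ∀ k, idx k = j ↔ k = a ∨ k = b) :
    (∃ g : ↥(isometryGroup F φ), g ∈ Omega F φ ∧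
      ((g : Matrix.GeneralLinearGroup ι F) : Matrix ι ι F)
        = Matrix.diagonal (fun k => if idx k < i then (-1 : F) else 1)) ↔ q ^ i % 4 = 1 := by
  subst hφ
  have h2 : (2 : F) ≠ 0 := Ring.two_ne_zero (SquareClass.ringChar_ne_two hF hq)
  obtain ⟨g, hd, hs, hg⟩ := exists_neg_pairs h2 hQ idx i h
  have hmat : ((g : Matrix.GeneralLinearGroup ι F) : Matrix ι ι F)
      = Matrix.diagonal (fun k => if idx k < i then (-1 : F) else 1) := by
    refine Matrix.ext_iff_mulVec.mpr fun x => funext fun k => ?_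
    rw [Matrix.mulVec_diagonal]
    refine (hg x k).trans ?_
    split_ifs <;> ring
  have hn : 2 ≤ Fintype.card ι := by
    obtain ⟨a, b, hp, -⟩ := h 0 hi
    exact Fintype.one_lt_card_iff.2 ⟨a, b, hp.ne⟩
  have key : minusSign F ^ i = 1 ↔ q ^ i % 4 = 1 := by
    classical
    rw [minusSign, FiniteField.isSquare_neg_one_iff, hF, Nat.pow_mod]
    have : q % 2 = 1 := Nat.odd_iff.1 hq
    rcases (by omega : q % 4 = 1 ∨ q % 4 = 3) with h4 | h4
    · simp [h4]
    · rcases Nat.even_or_odd i with ⟨l, rfl⟩ | ⟨l, rfl⟩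
      · simp [h4, pow_add, ← mul_pow, Nat.pow_mod, Nat.mul_mod]
      · simp [h4, pow_succ, pow_mul, Nat.pow_mod, Nat.mul_mod]
  constructor
  · rintro ⟨g', hmem, hg'⟩
    have : g' = g := Subtype.ext (Units.ext (hg'.trans hmat.symm))
    subst this
    rw [← key, ← hs]
    exact ((mem_omega_iff h2 hQ hn _).1 hmem).2
  · intro h1
    exact ⟨g, (mem_omega_iff h2 hQ hn g).2 ⟨hd, hs.trans (key.2 h1)⟩, hmat⟩

end Cfsg.Agent.Lib.PairNeg
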